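import Groth.Agent.LeadResProp.Family
import Groth.Agent.H11Div.UFDComplement
import Groth.Agent.H8Props.AmpleDivisors
import Groth.Agent.H11Ample.QuasiAffine
import Groth.Agent.S17886
import Groth.Agent.S2821

/-!
# Regular schemes with affine diagonal are divisorial
-/

set_option autoImplicit false
set_option linter.style.haveILetI false

noncomputable section

universe u

open CategoryTheory CategoryTheory.Limits AlgebraicGeometry Opposite TopologicalSpace
open Groth.Agent.H11Tilde Groth.Agent.H11Ample

namespace Groth.Agent.LeadResProp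

variable {X : Scheme.{u}}

theorem isAffineHom_ι (U : X.Opens) (hU : IsAffineOpen U)
    (hdiag : ∀ U V : X.Opens, IsAffineOpen U → IsAffineOpen V → IsAffineOpen (U ⊓ V)) : IsAffineHom U.ι :=
  ⟨fun V hV => by
    rw [← U.ι.isAffineOpen_iff_of_isOpenImmersion, Scheme.Hom.image_preimage_eq_opensRange_inf,
      Scheme.Opens.opensRange_ι]
    exact hdiag U V hU hV⟩

theorem hasAmpleFamily_of_ufd [CompactSpace X] [IsLocallyNoetherian X]
    (hufd : ∀ x : X, IsDomain (X.presheaf.stalk x) ∧ UniqueFactorizationMonoid (X.presheaf.stalk x))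
    (haff : ∀ U : X.Opens, IsAffineOpen U → IsAffineHom U.ι) :
    MoreMor.HasAmpleFamily X := by
  classical
  haveI : IsNoetherian X := {}
  choose U hxU hU hdense using fun x : X => Groth.Agent.S17886.exists_dense_affine_nhd x
  have hD : ∀ x, BlowUp.IsEffCartierIdeal
      (Scheme.IdealSheafData.vanishingIdeal ⟨(U x : Set X)ᶜ, (U x).isOpen.isClosed_compl⟩) := fun x => by
    haveI := haff (U x) (hU x)
    exact H11Div.isEffCartierIdeal_vanishingIdeal_compl (U x) (hdense x) fun y _ => hufd y
  obtain ⟨T, hT⟩ := CompactSpace.elim_nhds_subcover (fun x => (U x : Set X))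
    (fun x => (U x).isOpen.mem_nhds (hxU x))
  let el : Fin T.card → X := fun j => (T.equivFin.symm j).1
  let D : Fin T.card → X.IdealSheafData := fun j =>
    Scheme.IdealSheafData.vanishingIdeal ⟨(U (el j) : Set X)ᶜ, (U (el j)).isOpen.isClosed_compl⟩
  have hsupp : ∀ j, ((D j).support : Set X) = (U (el j) : Set X)ᶜ := fun j => by
    simp [D]
  refine H8Props.Ample.hasAmpleFamily_of_effCartier D (fun j => hD _)
    (Set.eq_empty_iff_forall_notMem.2 fun x hx => ?_) (fun _ => Coh.structureModule X)
    (fun _ => H11Ample.isInvertible_structureModule) fun j => ?_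
  · obtain ⟨y, hy, hxy⟩ := Set.mem_iUnion₂.1 (hT.ge (Set.mem_univ x))
    have h1 := Set.mem_iInter.1 hx (T.equivFin ⟨y, hy⟩)
    rw [hsupp] at h1
    refine h1 ?_
    show x ∈ U (T.equivFin.symm (T.equivFin ⟨y, hy⟩)).1
    rw [Equiv.symm_apply_apply]
    exact hxy
  · have he : (D j).support.compl = U (el j) := Opens.ext (by
      show ((D j).support : Set X)ᶜ = _
      rw [hsupp, compl_compl])
    rw [he]
    haveI : IsAffine (U (el j)).toScheme := hU _
    exact H11Ample.isAmple_of_isQuasiAffine (isInvertible_pullback _ H11Ample.isInvertible_structureModule)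

theorem hasAmpleFamily_of_regular [CompactSpace X] [IsLocallyNoetherian X]
    (hreg : ∀ x : X, IsRegularLocalRing (X.presheaf.stalk x))
    (hdiag : ∀ U V : X.Opens, IsAffineOpen U → IsAffineOpen V → IsAffineOpen (U ⊓ V)) :
    MoreMor.HasAmpleFamily X :=
  hasAmpleFamily_of_ufd (fun x => haveI := hreg x; Groth.Agent.S2821.result (X.presheaf.stalk x))
    fun U hU => isAffineHom_ι U hU hdiag

end Groth.Agent.LeadResProp
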