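import Groth.Agent.LeadBC.TensorSect
import Groth.Agent.H11Tilde.ProjUP
import Groth.Agent.H11Ample.Restrict
import Groth.Agent.H10Coh.FlatBC.Transpose
import Groth.Agent.H10Coh.SheafHom.Adj
import Groth.Agent.H10Coh.SheafHom.Flat
import Groth.Agent.H10Coh.GenHom
import Groth.Agent.H10Coh.QCohOps
import Groth.Agent.H10Coh.AffinePush
import Groth.Agent.S9716
import Groth.Agent.H22Alg.KPush
import Groth.Agent.H10Coh.AffineAmple
import Groth.Prelude.Def_PerfAux

/-!
# Descending quotient bundles along a finite locally free surjection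
-/

set_option autoImplicit false
set_option linter.style.haveILetI false

noncomputable section

universe u

open CategoryTheory CategoryTheory.Limits AlgebraicGeometry Opposite TopologicalSpace TensorProduct
open Groth.Agent.H11Ample Groth.Agent.H8Props.PullSections Groth.Agent.H11Tilde

namespace Groth.Agent.LeadResProp

variable {X Y : Scheme.{u}} (f : X ⟶ Y)

/-- `f_* O_X`. -/
abbrev pushO : Y.Modules := (Scheme.Modules.pushforward f).obj (Coh.structureModule X)

variable (F : Y.Modules)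

/-- `b • z` for a function `b` and a section `z` of `f^* F` over an inverse image. -/
def sm {U : Y.Opens} (b : Γ(pushO f, U)) (z : Γ((Scheme.Modules.pullback f).obj F, f ⁻¹ᵁ U)) :
    Γ((Scheme.Modules.pushforward f).obj ((Scheme.Modules.pullback f).obj F), U) :=
  HSMul.hSMul (show Γ(X, f ⁻¹ᵁ U) from b) z

/-- `(b, y) ↦ b • f^* y`. -/
def unitPairing : H11Tilde.Pairing (pushO f) F
    ((Scheme.Modules.pushforward f).obj ((Scheme.Modules.pullback f).obj F)) where
  toFun U b y := sm f F b (OmegaSh.pullSect f F U y)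
  add_left U b b' y :=
    add_smul (M := Γ((Scheme.Modules.pullback f).obj F, f ⁻¹ᵁ U)) (show Γ(X, f ⁻¹ᵁ U) from b)
      (show Γ(X, f ⁻¹ᵁ U) from b') _
  smul_left U r b y :=
    mul_smul (β := Γ((Scheme.Modules.pullback f).obj F, f ⁻¹ᵁ U)) (f.app U r) (show Γ(X, f ⁻¹ᵁ U) from b) _
  add_right U b y y' := by
    rw [map_add (OmegaSh.pullSect f F U).hom]
    exact smul_add (A := Γ((Scheme.Modules.pullback f).obj F, f ⁻¹ᵁ U)) (show Γ(X, f ⁻¹ᵁ U) from b) _ _
  smul_right U r b y := by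
    rw [OmegaSh.pullSect_smul]
    exact smul_comm (α := Γ((Scheme.Modules.pullback f).obj F, f ⁻¹ᵁ U)) (show Γ(X, f ⁻¹ᵁ U) from b) (f.app U r) _
  res U V k b y := by
    refine (Scheme.Modules.map_smul ((Scheme.Modules.pullback f).obj F) _ _ _).trans ?_
    exact congrArg₂ (HSMul.hSMul (α := Γ(X, f ⁻¹ᵁ V)) (β := Γ((Scheme.Modules.pullback f).obj F, f ⁻¹ᵁ V)))
      rfl (H11Tilde.pullSect_res f F k y).symm

/-- `f_* O_X ⊗ F ⟶ f_* f^* F`. -/
def unitTensor : CohB1.tensorMod (pushO f) F ⟶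
    (Scheme.Modules.pushforward f).obj ((Scheme.Modules.pullback f).obj F) :=
  H11Tilde.tensorDesc (unitPairing f F)

theorem unitTensor_tm {U : Y.Opens} (b : Γ(pushO f, U)) (y : Γ(F, U)) :
    (unitTensor f F).app U (tm b y) = sm f F b (OmegaSh.pullSect f F U y) :=
  tensorDesc_tm (unitPairing f F) b y

theorem isQCoh_pushO [IsAffineHom f] : Coh.IsQCoh (pushO f) :=
  @Groth.Agent.H10Coh.isQuasicoherent_pushforward_of_isAffineHom _ _ f _ _ Groth.Agent.H10Coh.isQuasicoherent_unit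

/-- The projection formula `f_* O_X ⊗ F ≅ f_* f^* F` for an affine morphism. -/
theorem isIso_unitTensor [IsAffineHom f] (hF : Coh.IsQCoh F) : IsIso (unitTensor f F) := by
  haveI : F.IsQuasicoherent := hF
  haveI : (pushO f).IsQuasicoherent := isQCoh_pushO f
  refine H10Coh.FBC.isIso_of_bijective_affine_le (𝟙 Y) _ fun V V' _ hV' _ => ?_
  have hU := hV'.preimage f
  let h := le_refl (f ⁻¹ᵁ V')
  letI := (f.appLE V' _ h).hom.toAlgebra
  let P := (Scheme.Modules.pullback f).obj F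
  letI := Module.compHom Γ(P, f ⁻¹ᵁ V') (f.appLE V' _ h).hom
  haveI : IsScalarTower Γ(Y, V') Γ(X, f ⁻¹ᵁ V') Γ(P, f ⁻¹ᵁ V') := .of_algebraMap_smul fun _ _ => rfl
  have hbc : IsBaseChange Γ(X, f ⁻¹ᵁ V') (pullLin f F h) := isBaseChange_pullLin f F h hF hV' hU
  have happ : f.appLE V' _ h = f.app V' := f.appLE_eq_app
  let a : Γ(pushO f, V') ≃ₗ[Γ(Y, V')] Γ(X, f ⁻¹ᵁ V') :=
    { AddEquiv.refl Γ(X, f ⁻¹ᵁ V') with
      map_smul' := fun r b => by
        show f.app V' r * _ = f.appLE V' _ h r * _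
        rw [happ]; rfl }
  let e : Γ(pushO f, V') ⊗[Γ(Y, V')] Γ(F, V') ≃+ Γ(P, f ⁻¹ᵁ V') :=
    (TensorProduct.congr a (LinearEquiv.refl Γ(Y, V') Γ(F, V'))).toAddEquiv.trans hbc.equiv.toAddEquiv
  have hcomp : ∀ t, (unitTensor f F).app V' (LeadBC.mulSect (pushO f) F V' t) = e t := fun t => by
    induction t using TensorProduct.induction_on with
    | zero => exact (congrArg _ (map_zero (LeadBC.mulSect (pushO f) F V'))).trans ((map_zero ((unitTensor f F).app V').hom).trans (map_zero e).symm)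
    | add p q hp hq =>
      refine (congrArg _ (map_add (LeadBC.mulSect (pushO f) F V') p q)).trans ?_
      refine (map_add ((unitTensor f F).app V').hom _ _).trans ?_
      rw [map_add e]
      exact congrArg₂ (· + ·) hp hq
    | tmul b y =>
      show (unitTensor f F).app V' (LeadBC.mulSect (pushO f) F V' (b ⊗ₜ y)) = hbc.equiv (a b ⊗ₜ y)
      rw [LeadBC.mulSect_tmul, unitTensor_tm, IsBaseChange.equiv_tmul, H10Coh.SheafHom.pullLin_self]
      rfl
  exact (Function.Bijective.of_comp_iff ((unitTensor f F).app V')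
    (LeadBC.bijective_mulSect (pushO f) F V' hV')).1 (by
      have : ((unitTensor f F).app V') ∘ (LeadBC.mulSect (pushO f) F V') = e :=
        funext hcomp
      rw [this]
      exact e.bijective)

section evaluation

variable {A B : Type u} [CommRing A] [CommRing B] [Algebra A B]

theorem exists_dual_apply_one [Module.Free A B] [Module.Finite A B]
    (h : Function.Surjective (PrimeSpectrum.comap (algebraMap A B))) :
    ∃ φ : B →ₗ[A] A, φ 1 = 1 := by
  let J : Ideal A := LinearMap.range (LinearMap.applyₗ (R := A) (M₂ := A) (1 : B))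
  suffices hJ : J = ⊤ by
    have h1 : (1 : A) ∈ J := hJ ▸ Submodule.mem_top
    exact h1
  by_contra hJ
  obtain ⟨P, hP, hle⟩ := Ideal.exists_le_maximal J hJ
  obtain ⟨Q, hQ⟩ := h ⟨P, hP.isPrime⟩
  let b := Module.Free.chooseBasis A B
  have hb : ∀ i, b.repr 1 i ∈ P := fun i => hle ⟨b.coord i, rfl⟩
  refine Q.isPrime.ne_top ((Ideal.eq_top_iff_one _).2 ?_)
  rw [← b.sum_repr 1]
  refine sum_mem fun i _ => ?_
  rw [Algebra.smul_def]
  refine Ideal.mul_mem_right _ _ ?_
  have hPQ : P = Q.asIdeal.comap (algebraMap A B) := congrArg PrimeSpectrum.asIdeal hQ.symm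
  rw [hPQ] at hb
  exact hb i

end evaluation

theorem surjective_comap_app [Surjective f] [IsAffineHom f] {V : Y.Opens} (hV : IsAffineOpen V) :
    Function.Surjective (PrimeSpectrum.comap (f.app V).hom) := by
  intro q
  obtain ⟨y, rfl⟩ := H29Blow.exists_primeIdealOf_eq hV q
  obtain ⟨x, hx⟩ := f.surjective y.1
  have hxU : x ∈ f ⁻¹ᵁ V := by
    show f.base x ∈ V
    rw [hx]
    exact y.2
  refine ⟨(hV.preimage f).primeIdealOf ⟨x, hxU⟩, PrimeSpectrum.ext (Ideal.ext fun r => ?_)⟩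
  have h1 := H29Blow.mem_primeIdealOf_iff (hV.preimage f) ⟨x, hxU⟩ (f.app V r)
  have h2 := H29Blow.mem_primeIdealOf_iff hV ⟨f.base x, hxU⟩ r
  have hy : (⟨f.base x, hxU⟩ : V) = y := Subtype.ext hx
  rw [← hy]
  show f.app V r ∈ ((hV.preimage f).primeIdealOf ⟨x, hxU⟩).asIdeal ↔ _
  refine h1.trans (Iff.trans (not_congr ?_) h2.symm)
  rw [← Scheme.Hom.germ_stalkMap_apply f V x hxU r]
  exact isUnit_map_iff (f.stalkMap x).hom _

/-- The dual of `f_* O_X`. -/
abbrev dualO : Y.Modules := RefHull.homSh (pushO f) (Coh.structureModule Y)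

/-- Evaluation. -/
def evalO : H16Derived.KFlat.Stalk.tensor (pushO f) (dualO f) ⟶ Coh.structureModule Y :=
  H10Coh.SheafHom.uncurry (F := pushO f) (G := Coh.structureModule Y) (N := dualO f) (𝟙 _)

variable {f}

theorem isFinLocFree_pushO (hf : Mor2.IsFinLocFree f) : FlatMod.IsFinLocFree (pushO f) :=
  ((Groth.Agent.S9716.result f).2 hf).2

theorem isFinLocFree_dualO (hf : Mor2.IsFinLocFree f) : FlatMod.IsFinLocFree (dualO f) :=
  H10Coh.SheafHom.isFinLocFree_homSh (isFinLocFree_pushO hf) (H22Alg.KPush.finLocFree_structure Y)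

theorem epi_evalO (hf : Mor2.IsFinLocFree f) [Surjective f] : Epi (evalO f) := by
  haveI := hf.1
  have hA := isFinLocFree_pushO hf
  choose U hU hxU _ using fun y : Y => H10Coh.SheafHom.exists_freeOn hA ⊤ y trivial
  refine H10Coh.epi_of_surjective_on_cover _ H10Coh.isQuasicoherent_unit U (fun j => (hU j).1)
    (fun y => ⟨y, hxU y⟩) fun y => ⟨{(1 : Γ(Y, U y))}, ?_, ?_⟩
  · exact Ideal.span_singleton_one
  rintro σ rfl
  letI := (f.app (U y)).hom.toAlgebra
  haveI : Module.Free Γ(Y, U y) Γ(X, f ⁻¹ᵁ U y) := (hU y).2.1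
  haveI : Module.Finite Γ(Y, U y) Γ(X, f ⁻¹ᵁ U y) := (hU y).2.2
  obtain ⟨φ, hφ⟩ := exists_dual_apply_one (A := Γ(Y, U y)) (B := Γ(X, f ⁻¹ᵁ U y))
    (surjective_comap_app f (hU y).1)
  let φ' : Γ(pushO f, U y) →ₗ[Γ(Y, U y)] Γ(Coh.structureModule Y, U y) :=
    { toFun := φ, map_add' := φ.map_add, map_smul' := fun r b => φ.map_smul r b }
  obtain ⟨s, hs⟩ := (H29Ref.bijective_toLinₗ (pushO f) (Coh.structureModule Y) (isQCoh_pushO f) (hU y).1).2 φ'
  refine ⟨H16Derived.KFlat.Stalk.tensorSect (U y) (show Γ(pushO f, U y) from (1 : Γ(X, f ⁻¹ᵁ U y))) s, ?_⟩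
  refine (H10Coh.SheafHom.uncurry_tensorSect _ _ _ _).trans ?_
  exact (LinearMap.congr_fun hs _).trans hφ

theorem isFinLocFree_push (hf : Mor2.IsFinLocFree f) {E : X.Modules} (hE : FlatMod.IsFinLocFree E) :
    FlatMod.IsFinLocFree ((Scheme.Modules.pushforward f).obj E) := by
  haveI := hf.1
  haveI : E.IsQuasicoherent := H8Props.FinLocFree.isQCoh_of_isFinLocFree E hE
  refine H8Props.FinLocFree.isFinLocFree_of_sections _
    (H10Coh.isQuasicoherent_pushforward_of_isAffineHom f E) fun y => ?_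
  obtain ⟨W, hW, hyW, -⟩ := exists_isAffineOpen_mem_and_subset (Opens.mem_top y)
  obtain ⟨hA1, hA2⟩ := H8Props.FinLocFree.finite_projective_sections _ (isFinLocFree_pushO hf) hW
  obtain ⟨hE1, hE2⟩ := H8Props.FinLocFree.finite_projective_sections E hE (hW.preimage f)
  letI := (f.app W).hom.toAlgebra
  haveI : Module.Finite Γ(Y, W) Γ(X, f ⁻¹ᵁ W) := hA1
  haveI : Module.Projective Γ(Y, W) Γ(X, f ⁻¹ᵁ W) := hA2
  letI := Module.compHom Γ(E, f ⁻¹ᵁ W) (f.app W).hom
  haveI : IsScalarTower Γ(Y, W) Γ(X, f ⁻¹ᵁ W) Γ(E, f ⁻¹ᵁ W) := .of_algebraMap_smul fun _ _ => rfl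
  haveI h1 : Module.Finite Γ(Y, W) Γ(E, f ⁻¹ᵁ W) := Module.Finite.trans Γ(X, f ⁻¹ᵁ W) _
  haveI h2 : Module.Flat Γ(Y, W) Γ(E, f ⁻¹ᵁ W) := Module.Flat.trans _ Γ(X, f ⁻¹ᵁ W) _
  haveI h3 : Module.FinitePresentation Γ(Y, W) Γ(E, f ⁻¹ᵁ W) :=
    haveI := Module.finitePresentation_of_projective Γ(Y, W) Γ(X, f ⁻¹ᵁ W)
    haveI := Module.finitePresentation_of_projective Γ(X, f ⁻¹ᵁ W) Γ(E, f ⁻¹ᵁ W)
    Module.FinitePresentation.trans Γ(Y, W) Γ(E, f ⁻¹ᵁ W) Γ(X, f ⁻¹ᵁ W)
  exact ⟨W, hW, hyW, h3, h2⟩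

theorem epi_push_map [IsAffineHom f] {M N : X.Modules} (π : M ⟶ N) [M.IsQuasicoherent] [N.IsQuasicoherent]
    [Epi π] : Epi ((Scheme.Modules.pushforward f).map π) := by
  choose U hU hxU _ using fun y : Y => exists_isAffineOpen_mem_and_subset (Opens.mem_top y)
  refine H10Coh.epi_of_surjective_on_cover _ (H10Coh.isQuasicoherent_pushforward_of_isAffineHom f N) U hU
    (fun y => ⟨y, hxU y⟩) fun y => ⟨Set.univ, Submodule.span_univ, fun σ _ => ?_⟩
  exact H10Coh.surjective_app_of_epi π ((hU y).preimage f) σ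

theorem tBi (F M : Y.Modules) : ((DCoh.tensorBi (X := Y)).obj F).obj M = CohB1.tensorMod F M := rfl

open Groth.Agent.H16Derived.KFlat.Stalk in
theorem exists_epi_tensor {M A D F : Y.Modules} (g : M ⟶ CohB1.tensorMod A F) [Epi g]
    (ev : tensor A D ⟶ Coh.structureModule Y) [Epi ev] :
    ∃ q : tensor D M ⟶ F, Epi q := by
  let c : CohB1.tensorMod D (CohB1.tensorMod A F) ≅ CohB1.tensorMod F (CohB1.tensorMod A D) :=
    (H10Coh.Tw.assoc D A F).symm ≪≫ H10Coh.Tw.commIso _ _ ≪≫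
      eqToIso (tBi F _).symm ≪≫
      ((DCoh.tensorBi (X := Y)).obj F).mapIso (H10Coh.Tw.commIso D A) ≪≫
      eqToIso (tBi F _)
  let v : tensor F (CohB1.tensorMod A D) ⟶ tensor F (Coh.structureModule Y) :=
    ((DCoh.tensorBi (X := Y)).obj F).map (eqToHom (tBi A D).symm ≫ ev)
  haveI hv : Epi v := Functor.map_epi _ _
  let w : tensor D M ⟶ tensor D (CohB1.tensorMod A F) := ((DCoh.tensorBi (X := Y)).obj D).map g
  haveI hw : Epi w := Functor.map_epi _ _
  exact ⟨w ≫ eqToHom (tBi D _) ≫ c.hom ≫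
    eqToHom (tBi F _).symm ≫ v ≫ eqToHom (tBi F _) ≫
    (H10Coh.Tw.rightUnitIso F).hom, inferInstance⟩

/-- The resolution property descends. -/
theorem descends (hf : Mor2.IsFinLocFree f) [Surjective f] (hX : PerfAux.HasResolutionProperty X) :
    PerfAux.HasResolutionProperty Y := by
  intro F hF hFT
  haveI := hf.1
  obtain ⟨E, π, hE, hπ⟩ := hX ((Scheme.Modules.pullback f).obj F) (H29Fitt.isQCoh_pullback f F hF)
    (H29Fitt.isFT_pullback f F hF hFT)
  haveI : E.IsQuasicoherent := H8Props.FinLocFree.isQCoh_of_isFinLocFree E hE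
  haveI : ((Scheme.Modules.pullback f).obj F).IsQuasicoherent := H29Fitt.isQCoh_pullback f F hF
  haveI := epi_push_map (f := f) π
  haveI := isIso_unitTensor f F hF
  haveI := epi_evalO hf
  obtain ⟨q, hq⟩ := exists_epi_tensor ((Scheme.Modules.pushforward f).map π ≫ inv (unitTensor f F)) (evalO f)
  exact ⟨_, q, H16Derived.KFlat.Stalk.isFinLocFree_tensor (isFinLocFree_dualO hf) (isFinLocFree_push hf hE), hq⟩

end Groth.Agent.LeadResProp
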