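import Groth.Agent.H11Ample.Global
import Groth.Agent.H11Ample.RelComp
import Groth.Agent.H16Derived.ProjFormula.Free
import Groth.Agent.H16Derived.KFlat.LocFreeOps
import Groth.Agent.H22Alg.KAmple
import Groth.Agent.H11Sym.InvertibleInverse
import Groth.Agent.H27KZero.AmpleRes
import Groth.Prelude.Def_MoreMor
import Groth.Prelude.Def_PerfAux

/-!
# An ample family gives the resolution property
-/

set_option autoImplicit false
set_option linter.style.haveILetI false

noncomputable section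

universe u

open CategoryTheory CategoryTheory.Limits AlgebraicGeometry Opposite TopologicalSpace
open Groth.Agent.H11Tilde Groth.Agent.H11Ample
open Groth.Agent.H16Derived Groth.Agent.H16Derived.ProjFormula Groth.Agent.H16Derived.KFlat
  Groth.Agent.H16Derived.KFlat.Stalk

namespace Groth.Agent.LeadResProp

variable {X : Scheme.{u}}

/-- Morphisms which are epi over `V`, tensored. -/
theorem epi_res_tensor (V : X.Opens) (A : X.Modules) {N N' : X.Modules} (φ : N ⟶ N') [Epi ((res V).map φ)] :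
    Epi ((res V).map (((DCoh.tensorBi (X := X)).obj A).map φ)) := by
  haveI : ∀ M, IsIso ((pullTensorR V.ι A).app M) := fun M => by
    rw [← pullTensorLIso_hom_app]; infer_instance
  haveI := NatIso.isIso_of_isIso_app (pullTensorR V.ι A)
  have key : ∀ {F G : X.Modules ⥤ (V : Scheme.{u}).Modules} (_ : F ≅ G) {M M' : X.Modules} (ψ : M ⟶ M'),
      Epi (F.map ψ) ↔ Epi (G.map ψ) := fun e M M' ψ =>
    (MorphismProperty.epimorphisms _).arrow_mk_iso_iff (Arrow.isoMk (e.app M) (e.app M') (e.hom.naturality ψ).symm)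
  haveI : Epi ((Scheme.Modules.pullback V.ι).map φ) :=
    (key (Scheme.Modules.restrictFunctorIsoPullback V.ι) φ).1 inferInstance
  refine (key (Scheme.Modules.restrictFunctorIsoPullback V.ι) _).2 ?_
  refine (key (asIso (pullTensorR V.ι A)) φ).2 ?_
  exact inferInstanceAs (Epi (((DCoh.tensorBi (X := (V : Scheme.{u}))).obj _).map
    ((Scheme.Modules.pullback V.ι).map φ)))

/-- Morphisms which are epi over the members of a cover are epi. -/
theorem epi_of_res {ι : Type*} (G : ι → X.Opens) (hG : ∀ x, ∃ i, x ∈ G i) {M N : X.Modules} (φ : M ⟶ N)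
    (h : ∀ i, Epi ((res (G i)).map φ)) : Epi φ := by
  refine ⟨fun {Z} a b hab => Scheme.Modules.hom_ext _ _ fun W => ConcreteCategory.hom_ext _ _ fun t => ?_⟩
  refine eq_of_locally _ _ fun x hx => ?_
  obtain ⟨i, hi⟩ := hG x
  haveI := h i
  have he : (res (G i)).map a = (res (G i)).map b := (cancel_epi ((res (G i)).map φ)).1 (by
    rw [← Functor.map_comp, ← Functor.map_comp, hab])
  refine ⟨W ⊓ G i, inf_le_left, ⟨hx, hi⟩, ?_⟩
  rw [← app_map_apply, ← app_map_apply]
  have hU : (G i).ι ''ᵁ ((G i).ι ⁻¹ᵁ (W ⊓ G i)) = W ⊓ G i := by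
    rw [Scheme.Hom.image_preimage_eq_opensRange_inf, Scheme.Opens.opensRange_ι, inf_eq_right.2 inf_le_right]
  have h2 : ∀ z, a.app ((G i).ι ''ᵁ ((G i).ι ⁻¹ᵁ (W ⊓ G i))) z =
      b.app ((G i).ι ''ᵁ ((G i).ι ⁻¹ᵁ (W ⊓ G i))) z := fun z =>
    congr($(congrArg (fun k => Scheme.Modules.Hom.app k ((G i).ι ⁻¹ᵁ (W ⊓ G i))) he) z)
  rw [hU] at h2
  exact h2 _

/-- A map from a finite free module surjective on sections over small opens of `G`. -/
theorem exists_free_epi_res (P : X.Modules) (G : X.Opens) {ι : Type u} [Fintype ι] (g : ι → Γ(P, ⊤))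
    (h : ∀ (W : X.Opens) (t : Γ(P, W)), ∀ x ∈ W, x ∈ G → ∃ (V : X.Opens) (hV : V ≤ W), x ∈ V ∧ V ≤ G ∧
      P.presheaf.map (homOfLE hV).op t ∈ Submodule.span Γ(X, V)
        (Set.range fun i => P.presheaf.map (homOfLE (le_top : V ≤ ⊤)).op (g i))) :
    ∃ (N : ℕ) (p : FlatMod.freeMod X N ⟶ P), Epi ((res G).map p) := by
  obtain ⟨a, ha⟩ := H10Coh.exists_free_desc (X := X) (N := P) fun i => homOfGlobal P (g i)
  let p := (Sigma.whiskerEquiv (f := fun _ : ι => Coh.structureModule X)
    (g := fun _ : Fin (Fintype.card ι) => Coh.structureModule X) (Fintype.equivFin ι)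
    fun _ => Iso.refl _).inv ≫ a
  have hea : Epi ((res G).map a) := by
    refine epi_of_locally_surjective ((res G).map a) fun W t x hx => ?_
    obtain ⟨V, hV, hxV, hVG, ht⟩ := h (G.ι ''ᵁ W) t (G.ι x) ⟨x, hx, rfl⟩ x.2
    have hVW : G.ι ⁻¹ᵁ V ≤ W := fun y hy => by
      obtain ⟨z, hz, hzy⟩ := hV hy
      rwa [← G.ι.isOpenEmbedding.injective hzy]
    refine ⟨G.ι ⁻¹ᵁ V, hVW, hxV, ?_⟩
    have hU : G.ι ''ᵁ (G.ι ⁻¹ᵁ V) ≤ V := by
      rw [Scheme.Hom.image_preimage_eq_opensRange_inf]
      exact inf_le_right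
    suffices hs : ∃ s, a.app V s = P.presheaf.map (homOfLE hV).op t by
      obtain ⟨s, hs⟩ := hs
      refine ⟨(H10Coh.freeMod X ι).presheaf.map (homOfLE hU).op s, ?_⟩
      refine (app_map_apply a hU s).trans ?_
      rw [hs, H10Coh.mres_mres]
      rfl
    generalize P.presheaf.map (homOfLE hV).op t = t' at ht ⊢
    induction ht using Submodule.span_induction with
    | mem y hy =>
      obtain ⟨i, rfl⟩ := hy
      refine ⟨(H10Coh.freeIncl ι i).app V (one V), ?_⟩
      refine (congr($(congrArg (fun k => Scheme.Modules.Hom.app k V) (ha i)) (one V))).trans ?_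
      change (1 : Γ(X, V)) • P.presheaf.map (homOfLE (le_top : V ≤ ⊤)).op (g i) = _
      rw [one_smul]
    | zero => exact ⟨0, map_zero _⟩
    | add y z _ _ hy hz =>
      obtain ⟨y', rfl⟩ := hy
      obtain ⟨z', rfl⟩ := hz
      exact ⟨y' + z', map_add _ _ _⟩
    | smul r y _ hy =>
      obtain ⟨y', rfl⟩ := hy
      exact ⟨r • y', Scheme.Modules.Hom.app_smul _ _ _⟩
  refine ⟨Fintype.card ι, p, ?_⟩
  rw [Functor.map_comp]
  exact @epi_comp _ _ _ _ _ _ inferInstance _ hea

/-- Over the non-vanishing locus, when affine, a coherent module is a quotient of a bundle. -/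
theorem exists_bundle_epi_res [CompactSpace X] [QuasiSeparatedSpace X] {F : X.Modules} (hF : Coh.IsCoh F)
    {L : X.Modules} (hL : PicF.IsInvertible L) (t : Γ(L, ⊤)) (ht : IsAffineOpen (gen L t)) :
    ∃ (E : X.Modules) (q : E ⟶ F), FlatMod.IsFinLocFree E ∧ Epi ((res (gen L t)).map q) := by
  classical
  haveI : F.IsQuasicoherent := hF.1
  let s : Γ(CohB1.tensorPow L 1, ⊤) := spow t 1
  have hs : gen (CohB1.tensorPow L 1) s = gen L t := gen_spow hL t 1 one_pos
  let G := gen (CohB1.tensorPow L 1) s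
  have hG : IsAffineOpen G := by rw [show G = gen L t from hs]; exact ht
  let e : Γ(L, G) := L.presheaf.map (homOfLE (le_top : G ≤ ⊤)).op t
  have he : IsGen L e := by
    have := (isGen_gen (L := L) t).res hs.le
    rwa [H10Coh.mres_mres] at this
  obtain ⟨card, m, hm⟩ := Submodule.fg_iff_exists_fin_generating_family.1
    (((H10Coh.isCoh_iff_finite_sections F).1 hF).2 _ hG).fg_top
  choose N hN using fun j : ULift.{u} (Fin card) => exists_extend_pow hL hF.1 one_pos s he (m j.down)
  let n := Finset.univ.sup N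
  choose S c hc hS using fun j => hN j n (Finset.le_sup (Finset.mem_univ j))
  let P := CohB1.tensorMod F (CohB1.tensorPow L n)
  obtain ⟨k, p, hp⟩ := exists_free_epi_res P G S fun W w x hxW hxG => by
    obtain ⟨f, hfW, hxf⟩ := hG.exists_basicOpen_le (V := W) ⟨x, hxW⟩ hxG
    have hfG : X.basicOpen f ≤ G := X.basicOpen_le f
    refine ⟨X.basicOpen f, hfW, hxf, hfG, ?_⟩
    obtain ⟨a, ha⟩ := (bijective_tm (F := F) (isGen_spow he n) hfG).2 (P.presheaf.map (homOfLE hfW).op w)
    beta_reduce at ha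
    rw [← ha]
    obtain ⟨r, v, hv⟩ := H10Coh.exists_pow_smul_eq_res F hG f a
    have hunit : IsUnit (X.presheaf.map (homOfLE hfG).op f) := X.toRingedSpace.isUnit_res_basicOpen f
    obtain ⟨d, hd⟩ := (hunit.pow r).exists_left_inv
    have ha' : a = d • F.presheaf.map (homOfLE hfG).op v := by
      rw [hv, smul_smul, map_pow]
      exact (one_smul _ a).symm.trans (congrArg (fun z => z • a) hd.symm)
    rw [ha', tm_smul_left]
    refine Submodule.smul_mem _ _ ?_
    have hmem : v ∈ Submodule.span Γ(X, G) (Set.range m) := hm.symm ▸ Submodule.mem_top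
    clear hv ha' ha
    induction hmem using Submodule.span_induction with
    | mem z hz =>
      obtain ⟨j, rfl⟩ := hz
      have h1 := congrArg (P.presheaf.map (homOfLE hfG).op) (hS ⟨j⟩)
      rw [H10Coh.mres_mres, tm_res] at h1
      obtain ⟨d', hd'⟩ := ((hc ⟨j⟩).map (X.presheaf.map (homOfLE hfG).op).hom).exists_left_inv
      have h2 : tm (F.presheaf.map (homOfLE hfG).op (m j))
          ((CohB1.tensorPow L n).presheaf.map (homOfLE hfG).op (spow e n)) =
          d' • P.presheaf.map (homOfLE (le_top : X.basicOpen f ≤ ⊤)).op (S ⟨j⟩) := by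
        rw [h1, Scheme.Modules.map_smul, tm_smul_left, smul_smul]
        exact (one_smul _ _).symm.trans (congrArg (fun z => z • _) hd'.symm)
      rw [h2]
      exact Submodule.smul_mem _ _ (Submodule.subset_span ⟨⟨j⟩, rfl⟩)
    | zero =>
      rw [map_zero, ← zero_smul Γ(X, X.basicOpen f) (0 : Γ(F, X.basicOpen f)), tm_smul_left, zero_smul]
      exact Submodule.zero_mem _
    | add z z' _ _ hz hz' =>
      rw [map_add, tm_add_left]
      exact Submodule.add_mem _ hz hz'
    | smul r z _ hz =>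
      rw [Scheme.Modules.map_smul, tm_smul_left]
      exact Submodule.smul_mem _ _ hz
  obtain ⟨M, hM, ⟨ε⟩⟩ := H11Sym.exists_inverse (isInvertible_tensorPow hL n)
  haveI := hp
  let T := (DCoh.tensorBi (X := X)).obj M
  let c' : CohB1.tensorMod M P ≅ F :=
    tensorCommIso M P ≪≫ tensorAssocIso F _ _ ≪≫
      PicGrp.tensorModIso (Iso.refl F) (tensorCommIso _ _ ≪≫ ε) ≪≫ tensorCommIso _ _ ≪≫ tensorLeftUnitIso F
  refine ⟨T.obj (FlatMod.freeMod X k), T.map p ≫ c'.hom,
    isFinLocFree_tensor (H22Alg.KModel.finLocFree_invertible hM) (H22Alg.KModel.finLocFree_free k), ?_⟩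
  rw [← show G = gen L t from hs]
  rw [Functor.map_comp]
  haveI : Epi ((res G).map (T.map p)) := epi_res_tensor G M p
  exact epi_comp _ _

theorem hasResolutionProperty_of_ampleFamily (hX : MoreMor.HasAmpleFamily X) :
    PerfAux.HasResolutionProperty X := by
  classical
  obtain ⟨hc, hfam⟩ := hX
  haveI := hc
  choose L n s hL hn hxs haff using hfam
  let P := fun x => CohB1.tensorPow (L x) (n x)
  let t : ∀ x, Γ(P x, ⊤) := fun x => SecTwist.val (s x) ⊤
  have hgen : ∀ x, CohB1.genLocus (P x) (s x) = gen (P x) (t x) := fun x => genLocus_eq_gen (s x)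
  haveI : QuasiSeparatedSpace X := quasiSeparatedSpace_of_gen_cover (fun x => isInvertible_tensorPow (hL x) (n x))
    t (fun x => ⟨x, hgen x ▸ hxs x⟩) fun x => by
      haveI : IsAffine (gen (P x) (t x)).toScheme := hgen x ▸ haff x
      infer_instance
  intro F hF hFT
  choose E q hE hq using fun x =>
    exists_bundle_epi_res (F := F) ⟨hF, hFT⟩ (isInvertible_tensorPow (hL x) (n x)) (t x) (hgen x ▸ haff x)
  obtain ⟨T, hT⟩ := CompactSpace.elim_nhds_subcover (fun x => (gen (P x) (t x) : Set X))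
    (fun x => (gen (P x) (t x)).isOpen.mem_nhds (hgen x ▸ hxs x))
  let J := Fin T.card
  let el : J → X := fun j => (T.equivFin.symm j).1
  refine ⟨∐ fun j : J => E (el j), Sigma.desc fun j => q (el j), isFinLocFree_sigma _ fun j => hE _, ?_⟩
  refine epi_of_res (fun j : J => gen (P (el j)) (t (el j))) (fun x => ?_) _ fun j => ?_
  · obtain ⟨y, hy, hxy⟩ := Set.mem_iUnion₂.1 (hT.ge (Set.mem_univ x))
    refine ⟨T.equivFin ⟨y, hy⟩, ?_⟩
    show x ∈ gen (P (T.equivFin.symm (T.equivFin ⟨y, hy⟩)).1) (t (T.equivFin.symm (T.equivFin ⟨y, hy⟩)).1)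
    rw [Equiv.symm_apply_apply]
    exact hxy
  · haveI := hq (el j)
    haveI : Epi ((res (gen (P (el j)) (t (el j)))).map (Sigma.ι (fun j : J => E (el j)) j) ≫
        (res (gen (P (el j)) (t (el j)))).map (Sigma.desc fun j => q (el j))) := by
      rw [← Functor.map_comp, Sigma.ι_desc]
      infer_instance
    exact epi_of_epi ((res (gen (P (el j)) (t (el j)))).map (Sigma.ι (fun j : J => E (el j)) j)) _

end Groth.Agent.LeadResProp
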