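import Groth.Agent.H11QMap.FTGen
import Groth.Agent.H22Alg.KAmple
import Groth.Agent.H11Sym.InvertibleInverse
import Groth.Agent.H16Derived.KFlat.FinLocFree
import Groth.Agent.H27KZero.AmpleRes
import Groth.Agent.S2337
import Groth.Prelude.Def_PerfAux

/-!
# The resolution property passes up along morphisms with a relatively ample module
-/

set_option autoImplicit false
set_option linter.style.haveILetI false

noncomputable section

universe u

open CategoryTheory CategoryTheory.Limits AlgebraicGeometry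

namespace Groth.Agent.LeadResProp

variable {X Y : Scheme.{u}} (f : X ⟶ Y)

theorem ascends [CompactSpace Y] [QuasiSeparatedSpace Y] (hY : PerfAux.HasResolutionProperty Y)
    {L : X.Modules} (hL : RelAmple.IsRelAmple f L) : PerfAux.HasResolutionProperty X := by
  intro F hF hFT
  haveI := hL.1
  obtain ⟨m, hm⟩ := H11QMap.eventually_exists_epi_pullback f hL hF hFT
  obtain ⟨G, φ, hG, hGft, hφ⟩ := hm m le_rfl
  obtain ⟨E, π, hE, hπ⟩ := hY G hG hGft
  haveI := hφ
  haveI := hπ
  haveI : (Scheme.Modules.pullback f).IsLeftAdjoint :=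
    (Scheme.Modules.pullbackPushforwardAdjunction f).isLeftAdjoint
  let q : (Scheme.Modules.pullback f).obj E ⟶ CohB1.tensorMod F (CohB1.tensorPow L m) :=
    (Scheme.Modules.pullback f).map π ≫ φ
  haveI hq : Epi q := epi_comp _ _
  obtain ⟨M, hM, ⟨e⟩⟩ := H11Sym.exists_inverse
    (H11Ample.isInvertible_tensorPow (H11Ample.isInvertible_of_isRelAmple hL) m)
  refine ⟨CohB1.tensorMod ((Scheme.Modules.pullback f).obj E) M, LimSh.tensorModMap q M ≫
    (H11Ample.tensorAssocIso F _ _ ≪≫ PicGrp.tensorModIso (Iso.refl F) (H11Ample.tensorCommIso _ _ ≪≫ e) ≪≫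
      H11Ample.tensorCommIso _ _ ≪≫ H11Ample.tensorLeftUnitIso F).hom,
    H22Alg.KModel.finLocFree_tensorMod (H16Derived.KFlat.Stalk.isFinLocFree_pullback f hE)
      (H22Alg.KModel.finLocFree_invertible hM), ?_⟩
  haveI : Epi (LimSh.tensorModMap q M) := @H10Coh.Tw.epi_map _ _ _ _ q hq hM
  exact epi_comp _ _

theorem isRelAmple_structure [IsAffineHom f] : RelAmple.IsRelAmple f (Coh.structureModule X) :=
  (Groth.Agent.S2337.result f).1 ⟨inferInstance, fun V hV => by
    haveI : IsAffine (f ⁻¹ᵁ V).toScheme := hV.preimage f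
    infer_instance⟩

end Groth.Agent.LeadResProp
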